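import Groth.Agent.L00.ModSiteTensor
import Mathlib.Algebra.Category.ModuleCat.Presheaf.Colimits
import Mathlib.Algebra.Category.ModuleCat.Sheaf.ChangeOfRings
import Mathlib.Algebra.Category.ModuleCat.Sheaf.Limits

/-! The forgetful functor to abelian sheaves preserves colimits; restriction of scalars is exact. -/

set_option autoImplicit false

universe u

open CategoryTheory CategoryTheory.Limits

noncomputable section

namespace Groth.L15.KFlatSite

variable {C : Type u} [SmallCategory C] {J : GrothendieckTopology C}

theorem preservesColimits_toSheaf (R : Sheaf J RingCat.{u}) :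
    PreservesColimitsOfSize.{u, u} (SheafOfModules.toSheaf.{u} R) where
  preservesColimitsOfShape {K₀ _} :=
    ⟨fun {K} =>
      haveI : PreservesColimitsOfSize.{u, u} (presheafToSheaf J AddCommGrpCat.{u}) :=
        (sheafificationAdjunction J AddCommGrpCat.{u}).leftAdjoint_preservesColimits
      haveI : PreservesColimitsOfSize.{u, u} (PresheafOfModules.sheafification.{u} (𝟙 R.obj) ⋙ SheafOfModules.toSheaf R) :=
        @preservesColimits_of_natIso _ _ _ _ _ _
          (PresheafOfModules.sheafificationCompToSheaf (𝟙 R.obj)).symm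
          (@comp_preservesColimits _ _ _ _ _ _ _ _ inferInstance inferInstance)
      Groth.L00.ModSiteTensor.preservesColimit_of_reflective (PresheafOfModules.sheafificationAdjunction (𝟙 R.obj)) _ K⟩

theorem preservesLimits_toSheaf (R : Sheaf J RingCat.{u}) :
    PreservesLimitsOfSize.{u, u} (SheafOfModules.toSheaf.{u} R) := by
  haveI : PreservesLimitsOfSize.{u, u} (SheafOfModules.toSheaf.{u} R ⋙ sheafToPresheaf J AddCommGrpCat.{u}) :=
    inferInstanceAs (PreservesLimitsOfSize.{u, u} (SheafOfModules.forget R ⋙ PresheafOfModules.toPresheaf R.obj))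
  exact preservesLimits_of_reflects_of_preserves _ (sheafToPresheaf J AddCommGrpCat.{u})

theorem reflectsIsomorphisms_toSheaf (R : Sheaf J RingCat.{u}) :
    (SheafOfModules.toSheaf.{u} R).ReflectsIsomorphisms where
  reflects {M N} f hf := by
    haveI := hf
    haveI : IsIso ((PresheafOfModules.toPresheaf R.obj).map f.val) :=
      inferInstanceAs (IsIso ((sheafToPresheaf J AddCommGrpCat.{u}).map ((SheafOfModules.toSheaf R).map f)))
    haveI : IsIso f.val := isIso_of_reflects_iso _ (PresheafOfModules.toPresheaf R.obj)
    haveI : IsIso ((SheafOfModules.forget R).map f) := inferInstanceAs (IsIso f.val)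
    exact isIso_of_reflects_iso f (SheafOfModules.forget R)

theorem restrictScalars_exact {A B : Sheaf J RingCat.{u}} (φ : A ⟶ B) :
    PreservesLimitsOfSize.{u, u} (SheafOfModules.restrictScalars.{u} φ) ∧
    PreservesColimitsOfSize.{u, u} (SheafOfModules.restrictScalars.{u} φ) ∧
    (SheafOfModules.restrictScalars.{u} φ).ReflectsIsomorphisms := by
  haveI := reflectsIsomorphisms_toSheaf A
  haveI := reflectsIsomorphisms_toSheaf B
  haveI := preservesColimits_toSheaf A
  haveI := preservesColimits_toSheaf B
  haveI : PreservesColimitsOfSize.{u, u} (SheafOfModules.restrictScalars.{u} φ ⋙ SheafOfModules.toSheaf A) :=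
    inferInstanceAs (PreservesColimitsOfSize.{u, u} (SheafOfModules.toSheaf B))
  haveI := preservesLimits_toSheaf A
  haveI := preservesLimits_toSheaf B
  haveI : PreservesLimitsOfSize.{u, u} (SheafOfModules.restrictScalars.{u} φ ⋙ SheafOfModules.toSheaf A) :=
    inferInstanceAs (PreservesLimitsOfSize.{u, u} (SheafOfModules.toSheaf B))
  haveI : (SheafOfModules.restrictScalars.{u} φ ⋙ SheafOfModules.toSheaf A).ReflectsIsomorphisms :=
    inferInstanceAs ((SheafOfModules.toSheaf B).ReflectsIsomorphisms)
  refine ⟨?_, ?_, reflectsIsomorphisms_of_comp _ (SheafOfModules.toSheaf A)⟩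
  · haveI : ReflectsLimitsOfSize.{u, u} (SheafOfModules.toSheaf.{u} A) :=
      reflectsLimits_of_reflectsIsomorphisms
    exact preservesLimits_of_reflects_of_preserves _ (SheafOfModules.toSheaf A)
  · haveI : ReflectsColimitsOfSize.{u, u} (SheafOfModules.toSheaf.{u} A) :=
      reflectsColimits_of_reflectsIsomorphisms
    exact preservesColimits_of_reflects_of_preserves _ (SheafOfModules.toSheaf A)

end Groth.L15.KFlatSite
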