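import Groth.Prelude.Def_KFlatSite
import Groth.Agent.L15.ModTensor.Projection
import Groth.Agent.L00.BifunctorExact
import Groth.Agent.L00.SingleTotal
import Groth.Agent.L00.CellTower
import Mathlib.Algebra.Homology.BifunctorHomotopy
import Mathlib.Algebra.Homology.BifunctorFlip
import Mathlib.Algebra.Homology.HomologySequenceLemmas

/-! Closure properties of K-flat complexes of modules on a ringed site. -/

set_option autoImplicit false
set_option backward.isDefEq.respectTransparency false
set_option backward.isDefEq.respectTransparency.types false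

universe u

open CategoryTheory CategoryTheory.Limits HomologicalComplex

noncomputable section

namespace Groth.L15.KFlatSite

open Groth.L15.ModTensor

/-- Colimits of acyclic complexes along exact shapes are acyclic. -/
theorem acyclic_of_isColimit {A : Type*} [Category A] [Abelian A] {Λ : Type*} [Category Λ]
    [HasColimitsOfShape Λ A] [HasExactColimitsOfShape Λ A]
    (K : Λ ⥤ CochainComplex A ℤ) {c : Cocone K} (hc : IsColimit c) (i : ℤ)
    (h : ∀ j, IsZero ((K.obj j).homology i)) : IsZero (c.pt.homology i) :=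
  Groth.L00.Cell.isZero_homology_of_isColimit K hc i fun j =>
    ⟨j, 𝟙 j, (h j).eq_of_src _ _⟩

variable {C : Type u} [SmallCategory C] {J : GrothendieckTopology C} {O : Sheaf J CommRingCat.{u}}

instance ab4u : AB4OfSize.{u} (ModSite.Mod O) :=
  haveI := Groth.L10.shMod_isGrothendieckAbelian (ModSite.ringSh O)
  haveI : HasFiniteBiproducts (ModSite.Mod O) := Abelian.hasFiniteBiproducts
  AB4.of_AB5 _

instance ab4₀ : AB4OfSize.{0} (ModSite.Mod O) := AB4OfSize_shrink.{0, u} (ModSite.Mod O)

instance preservesColimits₀_tensorBi_obj (M : ModSite.Mod O) :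
    PreservesColimitsOfSize.{0, 0} ((ModSite.tensorBi O).obj M) :=
  preservesColimitsOfSize_shrink.{0, u, 0, u} (tL M)

instance hasColimitsOfShapeNat : HasColimitsOfShape ℕ (ModSite.Mod O) :=
  haveI : HasColimitsOfSize.{0, 0} (ModSite.Mod O) := hasColimitsOfSizeShrink.{0, 0, u, u} _
  inferInstance

instance hasExactColimitsOfShapeNat : HasExactColimitsOfShape ℕ (ModSite.Mod O) :=
  haveI := Groth.L10.shMod_isGrothendieckAbelian (ModSite.ringSh O)
  haveI : HasFilteredColimitsOfSize.{u, u} (ModSite.Mod O) := ⟨fun _ _ _ => inferInstance⟩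
  haveI : HasFilteredColimitsOfSize.{0, 0} (ModSite.Mod O) := hasFilteredColimitsOfSize_shrink.{0, 0, u, u}
  haveI : AB5OfSize.{0, 0} (ModSite.Mod O) := AB5OfSize_shrink.{0, 0, u, u} (ModSite.Mod O)
  inferInstance

instance additive_flip : (ModSite.tensorBi O).flip.Additive where
  map_add {M N f g} := NatTrans.ext (funext fun P => ((ModSite.tensorBi O).obj P).map_add)

instance additive_flip_obj (M : ModSite.Mod O) : ((ModSite.tensorBi O).flip.obj M).Additive :=
  additive_tR M

/-- `E ↦ Tot (L ⊗ E)`. -/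
abbrev T (L : CochainComplex (ModSite.Mod O) ℤ) :
    CochainComplex (ModSite.Mod O) ℤ ⥤ CochainComplex (ModSite.Mod O) ℤ :=
  Groth.L00.BifExact.T (ModSite.tensorBi O) L

theorem shortExact_tL_of_flat (M : ModSite.Mod O) (S : ShortComplex (ModSite.Mod O)) (hS : S.ShortExact)
    (h₃ : ModSite.IsFlat S.X₃) : (S.map (tL M)).ShortExact := by
  obtain ⟨P, π, hπ, hP⟩ := exists_flat_cover O M
  exact (ShortComplex.shortExact_iff_of_iso (S.mapNatIso (braidIso M))).2
    (shortExact_map_of_flat S hS (exists_flat_cover O) h₃ M)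

theorem of_iso {E E' : CochainComplex (ModSite.Mod O) ℤ} (e : E ≅ E') (h : ModSite.IsKFlat E) :
    ModSite.IsKFlat E' := fun L hL i =>
  (h L hL i).of_iso ((homologyFunctor _ _ i).mapIso ((T L).mapIso e)).symm

theorem zero (E : CochainComplex (ModSite.Mod O) ℤ) (h : IsZero E) : ModSite.IsKFlat E := fun L _ i =>
  (homologyFunctor _ _ i).map_isZero ((T L).map_isZero h)

theorem of_isColimit {Λ : Type*} [Category Λ] [HasColimitsOfShape Λ (ModSite.Mod O)]
    [HasExactColimitsOfShape Λ (ModSite.Mod O)]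
    [∀ M, PreservesColimitsOfShape Λ ((ModSite.tensorBi O).obj M)]
    (K : Λ ⥤ CochainComplex (ModSite.Mod O) ℤ) {c : Cocone K} (hc : IsColimit c)
    (h : ∀ j, ModSite.IsKFlat (K.obj j)) : ModSite.IsKFlat c.pt := fun L hL i =>
  acyclic_of_isColimit _ (isColimitOfPreserves (T L) hc) i (fun j => h j L hL i)

theorem shortExact_T (L : CochainComplex (ModSite.Mod O) ℤ) {S : ShortComplex (CochainComplex (ModSite.Mod O) ℤ)}
    (hS : S.ShortExact) (h₃ : ∀ n, ModSite.IsFlat (S.X₃.X n)) : (S.map (T L)).ShortExact :=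
  Groth.L00.BifExact.shortExact_T _ L S fun p q =>
    shortExact_tL_of_flat (L.X p) _ (hS.map_of_exact (eval _ _ q)) (h₃ q)

theorem two_of_three {S : ShortComplex (CochainComplex (ModSite.Mod O) ℤ)}
    (hT : ∀ L, (S.map (T L)).ShortExact) :
    (ModSite.IsKFlat S.X₁ → ModSite.IsKFlat S.X₂ → ModSite.IsKFlat S.X₃) ∧
    (ModSite.IsKFlat S.X₁ → ModSite.IsKFlat S.X₃ → ModSite.IsKFlat S.X₂) ∧
    (ModSite.IsKFlat S.X₂ → ModSite.IsKFlat S.X₃ → ModSite.IsKFlat S.X₁) := by
  refine ⟨fun h1 h2 L hL i => ?_, fun h1 h3 L hL i => ?_, fun h2 h3 L hL i => ?_⟩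
  · exact ((hT L).homology_exact₃ i (i + 1) (by simp)).isZero_X₂
      ((h2 L hL i).eq_of_src _ _) ((h1 L hL (i + 1)).eq_of_tgt _ _)
  · exact ((hT L).homology_exact₂ i).isZero_X₂ ((h1 L hL i).eq_of_src _ _) ((h3 L hL i).eq_of_tgt _ _)
  · exact ((hT L).homology_exact₁ (i - 1) i (by simp)).isZero_X₂
      ((h3 L hL (i - 1)).eq_of_src _ _) ((h2 L hL i).eq_of_tgt _ _)

theorem two_of_three_flat {S : ShortComplex (CochainComplex (ModSite.Mod O) ℤ)} (hS : S.ShortExact)
    (h₃ : ∀ n, ModSite.IsFlat (S.X₃.X n)) :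
    (ModSite.IsKFlat S.X₁ → ModSite.IsKFlat S.X₂ → ModSite.IsKFlat S.X₃) ∧
    (ModSite.IsKFlat S.X₁ → ModSite.IsKFlat S.X₃ → ModSite.IsKFlat S.X₂) ∧
    (ModSite.IsKFlat S.X₂ → ModSite.IsKFlat S.X₃ → ModSite.IsKFlat S.X₁) :=
  two_of_three fun L => shortExact_T L hS h₃

theorem two_of_three_split {S : ShortComplex (CochainComplex (ModSite.Mod O) ℤ)}
    (σ : ∀ q, (S.map (eval (ModSite.Mod O) (ComplexShape.up ℤ) q)).Splitting) :
    (ModSite.IsKFlat S.X₁ → ModSite.IsKFlat S.X₂ → ModSite.IsKFlat S.X₃) ∧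
    (ModSite.IsKFlat S.X₁ → ModSite.IsKFlat S.X₃ → ModSite.IsKFlat S.X₂) ∧
    (ModSite.IsKFlat S.X₂ → ModSite.IsKFlat S.X₃ → ModSite.IsKFlat S.X₁) :=
  two_of_three fun L => Groth.L00.BifExact.shortExact_T_of_splitting _ L S σ

/-- Tensoring preserves homotopy equivalences. -/
def tensorHomotopyEquiv (L : CochainComplex (ModSite.Mod O) ℤ)
    {E E' : CochainComplex (ModSite.Mod O) ℤ} (e : HomotopyEquiv E E') :
    HomotopyEquiv ((T L).obj E) ((T L).obj E') where
  hom := (T L).map e.hom
  inv := (T L).map e.inv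
  homotopyHomInvId :=
    (Homotopy.ofEq ((T L).map_comp _ _).symm).trans
      ((mapBifunctorMapHomotopy₂ (𝟙 L) e.homotopyHomInvId (ModSite.tensorBi O) (ComplexShape.up ℤ)).trans
        (Homotopy.ofEq ((T L).map_id _)))
  homotopyInvHomId :=
    (Homotopy.ofEq ((T L).map_comp _ _).symm).trans
      ((mapBifunctorMapHomotopy₂ (𝟙 L) e.homotopyInvHomId (ModSite.tensorBi O) (ComplexShape.up ℤ)).trans
        (Homotopy.ofEq ((T L).map_id _)))

theorem of_homotopyEquiv {E E' : CochainComplex (ModSite.Mod O) ℤ} (e : HomotopyEquiv E E')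
    (h : ModSite.IsKFlat E) : ModSite.IsKFlat E' := fun L hL i =>
  (h L hL i).of_iso ((tensorHomotopyEquiv L e).toHomologyIso i).symm

theorem shift (E : CochainComplex (ModSite.Mod O) ℤ) (k : ℤ) (h : ModSite.IsKFlat E) : ModSite.IsKFlat (E⟦k⟧) :=
  fun L hL i => by
    refine IsZero.of_iso ?_ ((HomologicalComplex.homologyFunctor _ _ i).mapIso
      (CochainComplex.mapBifunctorShift₂Iso L E (ModSite.tensorBi O) k))
    exact (h L hL (k + i)).of_iso (((CochainComplex.ShiftSequence.shiftIso (ModSite.Mod O) k i (k + i) rfl).app _))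

theorem isKFlat_cone {P Q : CochainComplex (ModSite.Mod O) ℤ} (α : P ⟶ Q) (hP : ModSite.IsKFlat P)
    (hQ : ModSite.IsKFlat Q) : ModSite.IsKFlat (CochainComplex.mappingCone α) :=
  (two_of_three_split (CochainComplex.mappingCone.triangleRotateShortComplexSplitting α)).2.1 hQ (shift P 1 hP)

/-- `L ⊗ M[0]` is termwise `- ⊗ M`. -/
def singleIso (M : ModSite.Mod O) (L : CochainComplex (ModSite.Mod O) ℤ) :
    ((tR M).mapHomologicalComplex (ComplexShape.up ℤ)).obj L ≅
      (T L).obj ((single (ModSite.Mod O) (ComplexShape.up ℤ) 0).obj M) :=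
  Groth.L00.SingleTotal.iso (ModSite.tensorBi O).flip M L ≪≫
    mapBifunctorFlipIso L ((single (ModSite.Mod O) (ComplexShape.up ℤ) 0).obj M) (ModSite.tensorBi O)
      (ComplexShape.up ℤ)

theorem single₀ (M : ModSite.Mod O) (h : ModSite.IsFlat M) :
    ModSite.IsKFlat ((single (ModSite.Mod O) (ComplexShape.up ℤ) 0).obj M) := fun L hL i => by
  haveI := h.1
  haveI := h.2
  haveI : (tR M).PreservesHomology := inferInstance
  exact ((tR M).map_isZero (hL i)).of_iso
    ((homologyFunctor _ _ i).mapIso (singleIso M L).symm ≪≫ (L.sc i).mapHomologyIso (tR M))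

theorem single (M : ModSite.Mod O) (h : ModSite.IsFlat M) (q : ℤ) :
    ModSite.IsKFlat ((HomologicalComplex.single (ModSite.Mod O) (ComplexShape.up ℤ) q).obj M) :=
  of_iso (((CochainComplex.singleFunctors (ModSite.Mod O)).shiftIso (-q) q 0 (by omega)).app M)
    (shift _ (-q) (single₀ M h))

theorem isFlat_zero {M : ModSite.Mod O} (h : IsZero M) : ModSite.IsFlat M :=
  (isFlat_iff M).mpr ⟨fun {A B} f _ => ⟨fun a b _ => (((ModSite.tensorBi O).obj A).map_isZero h).eq_of_tgt _ _⟩⟩

theorem isFlat_biprod {M N : ModSite.Mod O} (h : ModSite.IsFlat M) (h' : ModSite.IsFlat N) :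
    ModSite.IsFlat (M ⊞ N) :=
  isFlat_mid (ShortComplex.mk (biprod.inl : M ⟶ M ⊞ N) biprod.snd (by simp))
    (ShortComplex.Splitting.shortExact
      { r := biprod.fst, s := biprod.inr })
    (exists_flat_cover O) h h'

theorem isFlat_mappingCone {E E' : CochainComplex (ModSite.Mod O) ℤ} (φ : E ⟶ E')
    (h : ∀ n, ModSite.IsFlat (E.X n)) (h' : ∀ n, ModSite.IsFlat (E'.X n)) (n : ℤ) :
    ModSite.IsFlat ((CochainComplex.mappingCone φ).X n) :=
  isFlat_congr (HomologicalComplex.homotopyCofiber.XIsoBiprod φ n (n + 1) rfl).symm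
    (isFlat_biprod (h (n + 1)) (h' n))

theorem isFlat_colimitNat (D : ℕ ⥤ ModSite.Mod O) {c : Cocone D} (hc : IsColimit c)
    (h : ∀ k, ModSite.IsFlat (D.obj k)) : ModSite.IsFlat c.pt := by
  refine (isFlat_iff _).mpr ⟨fun {A B} i _ => ?_⟩
  let τ : D ⋙ tL A ⟶ D ⋙ tL B := Functor.whiskerLeft D ((ModSite.tensorBi O).map i)
  haveI : ∀ k, Mono (τ.app k) := fun k => by
    haveI := (isFlat_iff _).mp (h k)
    exact inferInstanceAs (Mono ((tR (D.obj k)).map i))
  haveI : Mono τ := NatTrans.mono_of_mono_app τ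
  exact colim.map_mono' τ (isColimitOfPreserves (tL A) hc) (isColimitOfPreserves (tL B) hc) ((tR c.pt).map i)
    fun k => (((ModSite.tensorBi O).map i).naturality (c.ι.app k))

section Bounded

variable (K : CochainComplex (ModSite.Mod O) ℤ)

open ZeroObject

/-- The terms of the brutal truncation. -/
def trX (m n : ℤ) : ModSite.Mod O := if m ≤ n then K.X n else 0

/-- The terms of the brutal truncation in high degrees. -/
def trE {m n : ℤ} (h : m ≤ n) : trX K m n ≅ K.X n := eqToIso (if_pos h)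

theorem isZero_trX {m n : ℤ} (h : ¬ m ≤ n) : IsZero (trX K m n) :=
  (isZero_zero (ModSite.Mod O)).of_iso (eqToIso (if_neg h))

/-- The brutal truncation. -/
def tr (m : ℤ) : CochainComplex (ModSite.Mod O) ℤ where
  X := trX K m
  d i j := if h : m ≤ i ∧ m ≤ j then (trE K h.1).hom ≫ K.d i j ≫ (trE K h.2).inv else 0
  shape i j h := by
    split_ifs with h'
    · rw [K.shape i j h, zero_comp, comp_zero]
    · rfl
  d_comp_d' i j k _ _ := by
    split_ifs with h₁ h₂
    · simp
    all_goals simp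

/-- The inclusion of brutal truncations. -/
def trIncl {m m' : ℤ} (h : m' ≤ m) : tr K m ⟶ tr K m' where
  f n := if hn : m ≤ n then (trE K hn).hom ≫ (trE K (h.trans hn)).inv else 0
  comm' i j hij := by
    change i + 1 = j at hij
    by_cases hi : m ≤ i
    · have hj : m ≤ j := by omega
      simp [tr, dif_pos hi, dif_pos hj, h.trans hi, h.trans hj, hi, hj]
    · exact (isZero_trX K hi).eq_of_src _ _

theorem trIncl_f {m m' n : ℤ} (h : m' ≤ m) (hn : m ≤ n) :
    (trIncl K h).f n = (trE K hn).hom ≫ (trE K (h.trans hn)).inv := dif_pos hn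

/-- The truncation into the whole complex. -/
def trι (m : ℤ) : tr K m ⟶ K where
  f n := if hn : m ≤ n then (trE K hn).hom else 0
  comm' i j hij := by
    change i + 1 = j at hij
    by_cases hi : m ≤ i
    · have hj : m ≤ j := by omega
      simp [tr, dif_pos hi, dif_pos hj, hi, hj]
    · exact (isZero_trX K hi).eq_of_src _ _

theorem trι_f {m n : ℤ} (hn : m ≤ n) : (trι K m).f n = (trE K hn).hom := dif_pos hn

/-- The layer. -/
def trπ (m : ℤ) : tr K m ⟶ (HomologicalComplex.single (ModSite.Mod O) (ComplexShape.up ℤ) m).obj (K.X m) :=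
  mkHomToSingle (trE K le_rfl).hom fun i hi => (isZero_trX K (show ¬ m ≤ i from by
    change i + 1 = m at hi
    omega)).eq_of_src _ _

theorem isKFlat_tr_succ (m : ℤ) (hflat : ModSite.IsFlat (K.X m)) (h : ModSite.IsKFlat (tr K (m + 1))) :
    ModSite.IsKFlat (tr K m) := by
  have h1 : m ≤ m + 1 := by omega
  let S : ShortComplex (CochainComplex (ModSite.Mod O) ℤ) := ShortComplex.mk (trIncl K h1) (trπ K m) (by
    apply to_single_hom_ext
    exact (isZero_trX K (show ¬ m + 1 ≤ m by omega)).eq_of_src _ _)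
  refine (two_of_three_split (S := S) fun q => ?_).2.1 h (single _ hflat m)
  by_cases hq : q = m
  · subst hq
    haveI : IsIso ((trπ K q).f q) := by
      rw [trπ, mkHomToSingle_f]
      infer_instance
    exact ShortComplex.Splitting.ofIsZeroOfIsIso _ (isZero_trX K (show ¬ q + 1 ≤ q by omega))
      (inferInstanceAs (IsIso ((trπ K q).f q)))
  · haveI : IsIso ((trIncl K h1).f q) := by
      by_cases hq' : m + 1 ≤ q
      · rw [trIncl_f K h1 hq']
        infer_instance
      · exact ⟨0, (isZero_trX K hq').eq_of_src _ _, (isZero_trX K (show ¬ m ≤ q by omega)).eq_of_src _ _⟩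
    exact ShortComplex.Splitting.ofIsIsoOfIsZero _ (inferInstanceAs (IsIso ((trIncl K h1).f q)))
      (isZero_single_obj_X (ComplexShape.up ℤ) m (K.X m) q hq)

/-- The system of brutal truncations below `b`. -/
def trSys (b : ℤ) : ℕ ⥤ CochainComplex (ModSite.Mod O) ℤ where
  obj k := tr K (b - k)
  map {k l} u := trIncl K (show b - (l : ℤ) ≤ b - (k : ℤ) by have := leOfHom u; omega)
  map_id k := by
    refine HomologicalComplex.hom_ext _ _ fun n => ?_
    by_cases hn : b - (k : ℤ) ≤ n
    · rw [trIncl_f K _ hn]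
      simp
      rfl
    · exact (isZero_trX K hn).eq_of_src _ _
  map_comp {k l p} u v := by
    refine HomologicalComplex.hom_ext _ _ fun n => ?_
    by_cases hn : b - (k : ℤ) ≤ n
    · have := leOfHom u
      rw [HomologicalComplex.comp_f, trIncl_f K _ hn, trIncl_f K _ hn, trIncl_f K _ (show b - (l : ℤ) ≤ n by omega)]
      simp
    · exact (isZero_trX K hn).eq_of_src _ _

/-- The truncations exhaust the complex. -/
def trCocone (b : ℤ) : Cocone (trSys K b) where
  pt := K
  ι :=
    { app := fun k => trι K _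
      naturality := fun k l u => by
        dsimp [trSys]
        refine HomologicalComplex.hom_ext _ _ fun n => ?_
        by_cases hn : b - (k : ℤ) ≤ n
        · have := leOfHom u
          rw [HomologicalComplex.comp_f, Category.comp_id, trIncl_f K _ hn, trι_f K (show b - (l : ℤ) ≤ n by omega),
            trι_f K hn]
          simp
        · exact (isZero_trX K hn).eq_of_src _ _ }

/-- `K` is the colimit of its truncations. -/
def isColimitTrCocone (b : ℤ) : IsColimit (trCocone K b) :=
  isColimitOfEval _ _ fun n =>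
    let k₀ : ℕ := (b - n).toNat
    have hk₀ : b - (k₀ : ℤ) ≤ n := by omega
    { desc := fun s => (trE K hk₀).inv ≫ s.ι.app k₀
      fac := fun s k => by
        change (trι K (b - (k : ℤ))).f n ≫ (trE K hk₀).inv ≫ s.ι.app k₀ = _
        by_cases hn : b - (k : ℤ) ≤ n
        · have hm : b - ((max k k₀ : ℕ) : ℤ) ≤ n := by omega
          have w₁ : (trIncl K (show b - ((max k k₀ : ℕ) : ℤ) ≤ b - (k : ℤ) by omega)).f n ≫ s.ι.app (max k k₀) =
              s.ι.app k := s.w (homOfLE (le_max_left k k₀))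
          have w₂ : (trIncl K (show b - ((max k k₀ : ℕ) : ℤ) ≤ b - (k₀ : ℤ) by omega)).f n ≫ s.ι.app (max k k₀) =
              s.ι.app k₀ := s.w (homOfLE (le_max_right k k₀))
          have e₁ := trIncl_f K (show b - ((max k k₀ : ℕ) : ℤ) ≤ b - (k : ℤ) by omega) hn
          have e₂ := trIncl_f K (show b - ((max k k₀ : ℕ) : ℤ) ≤ b - (k₀ : ℤ) by omega) hk₀
          rw [trι_f K hn, ← w₁, ← w₂, e₁, e₂]
          exact congrArg ((trE K hn).hom ≫ ·)
            ((congrArg ((trE K hk₀).inv ≫ ·) (Category.assoc _ _ _)).trans (Iso.inv_hom_id_assoc _ _)) |>.trans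
              (Category.assoc _ _ _).symm
        · exact (isZero_trX K hn).eq_of_src _ _
      uniq := fun s m hm => by
        rw [← hm k₀]
        change m = (trE K hk₀).inv ≫ (trι K _).f n ≫ m
        rw [trι_f K hk₀, Iso.inv_hom_id_assoc] }

theorem of_bounded (b : ℤ) (hb : K.IsStrictlyLE b) (hflat : ∀ n, ModSite.IsFlat (K.X n)) :
    ModSite.IsKFlat K := by
  haveI := hb
  have hk : ∀ k : ℕ, ModSite.IsKFlat (tr K (b + 1 - k)) := by
    intro k
    induction k with
    | zero =>
      refine zero _ ((IsZero.iff_id_eq_zero _).2 (HomologicalComplex.hom_ext _ _ fun n => ?_))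
      by_cases hn : b + 1 - ((0 : ℕ) : ℤ) ≤ n
      · exact ((K.isZero_of_isStrictlyLE b n (by omega)).of_iso (trE K hn)).eq_of_src _ _
      · exact (isZero_trX K hn).eq_of_src _ _
    | succ k ih =>
      have e : b + 1 - ((k + 1 : ℕ) : ℤ) + 1 = b + 1 - (k : ℤ) := by omega
      exact isKFlat_tr_succ K _ (hflat _) (Eq.subst (motive := fun t => ModSite.IsKFlat (tr K t)) e.symm ih)
  exact of_isColimit (Λ := ℕ) (trSys K (b + 1)) (c := trCocone K (b + 1)) (isColimitTrCocone K (b + 1)) hk

end Bounded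

end Groth.L15.KFlatSite
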