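import Groth.Agent.L15.KFlatSite.Basic
import Groth.Agent.L00.CellTower
import Groth.Agent.L00.ConeTransfer
import Groth.Agent.L00.FunctorTotal

/-! K-flat resolutions and symmetry of the tensor product of complexes on a ringed site. -/

set_option autoImplicit false
set_option backward.isDefEq.respectTransparency false
set_option backward.isDefEq.respectTransparency.types false

universe u

open CategoryTheory CategoryTheory.Limits MonoidalCategory CochainComplex CochainComplex.HomComplex

noncomputable section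

namespace Groth.L15.KFlatSite

open Groth.L15.ModTensor Groth.L00 Groth.L00.ModSiteTensor

variable {C : Type u} [SmallCategory C] {J : GrothendieckTopology C} (O : Sheaf J CommRingCat.{u})

/-- The index of the cover of a module. -/
abbrev Idx (G : ModSite.Mod O) : Type u := Σ V : C, ((ModSite.toAb G).obj.obj (Opposite.op V) : Type u)

/-- The canonical map out of a free module. -/
abbrev gen {G : ModSite.Mod O} (i : Idx O G) : ModSite.freeOn O i.1 ⟶ G :=
  (Groth.L10.FreeOn.sec O i.1 G).symm i.2

/-- The image of an index. -/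
abbrev idxMap {G H : ModSite.Mod O} (f : G ⟶ H) (i : Idx O G) : Idx O H :=
  ⟨i.1, ((SheafOfModules.toSheaf.{u} (ModSite.ringSh O)).map f).hom.app (Opposite.op i.1) i.2⟩

theorem gen_comp {G H : ModSite.Mod O} (f : G ⟶ H) (i : Idx O G) : gen O i ≫ f = gen O (idxMap O f i) := by
  apply (Groth.L10.FreeOn.sec O i.1 H).injective
  rw [Groth.L10.FreeOn.sec_comp, Equiv.apply_symm_apply, Equiv.apply_symm_apply]

/-- The functorial flat cover. -/
def cover : ModSite.Mod O ⥤ ModSite.Mod O where
  obj G := ∐ fun i : Idx O G => ModSite.freeOn O i.1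
  map {G H} f := Sigma.desc fun i => Sigma.ι (fun j : Idx O H => ModSite.freeOn O j.1) (idxMap O f i)
  map_id G := Sigma.hom_ext _ _ fun i => by
    rw [Sigma.ι_desc, Category.comp_id]
    congr 1
  map_comp f g := Sigma.hom_ext _ _ fun i => by
    rw [Sigma.ι_desc, Sigma.ι_desc_assoc, Sigma.ι_desc]
    congr 1

/-- The covering map. -/
def coverπ : cover O ⟶ 𝟭 (ModSite.Mod O) where
  app G := Sigma.desc fun i => gen O i
  naturality G H f := Sigma.hom_ext _ _ fun i => by
    simp only [cover, Sigma.ι_desc_assoc, Sigma.ι_desc, Functor.id_map]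
    exact (gen_comp O f i).symm

instance epi_coverπ (G : ModSite.Mod O) : Epi ((coverπ O).app G) := ⟨fun {H} a b h => by
  apply (SheafOfModules.toSheaf.{u} (ModSite.ringSh O)).map_injective
  refine Sheaf.hom_ext (NatTrans.ext (funext fun Z => AddCommGrpCat.hom_ext (AddMonoidHom.ext fun x => ?_)))
  have h1 : gen O (G := G) ⟨Z.unop, x⟩ ≫ a = gen O (G := G) ⟨Z.unop, x⟩ ≫ b := by
    have := congrArg (Sigma.ι (fun i : Idx O G => ModSite.freeOn O i.1) ⟨Z.unop, x⟩ ≫ ·) h
    simpa [coverπ] using this
  have h2 := congrArg (Groth.L10.FreeOn.sec O Z.unop H) h1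
  rw [Groth.L10.FreeOn.sec_comp, Groth.L10.FreeOn.sec_comp, Equiv.apply_symm_apply] at h2
  exact h2⟩

variable {O}

theorem isFlat_cover (G : ModSite.Mod O) : ModSite.IsFlat ((cover O).obj G) :=
  isFlat_sigma _ fun i => isFlat_freeOn O i.1

/-- complexes with zero differential and flat terms are K-flat -/
theorem of_zeroDiff (E : CochainComplex (ModSite.Mod O) ℤ) (hd : ∀ m n, E.d m n = 0)
    (h : ∀ n, ModSite.IsFlat (E.X n)) : ModSite.IsKFlat E := by
  let S : ℤ → CochainComplex (ModSite.Mod O) ℤ := fun q =>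
    (HomologicalComplex.single (ModSite.Mod O) (ComplexShape.up ℤ) q).obj (E.X q)

  let d : ∀ q, S q ⟶ E := fun q =>
    HomologicalComplex.mkHomFromSingle (𝟙 (E.X q)) (fun n _ => by rw [hd, comp_zero])
  let f : (∐ S) ⟶ E := Sigma.desc d
  haveI : ∀ m, IsIso (f.f m) := fun m => by
    let g : E.X m ⟶ (∐ S).X m :=
      (HomologicalComplex.singleObjXSelf (ComplexShape.up ℤ) m (E.X m)).inv ≫ (Sigma.ι S m).f m
    refine ⟨⟨g, ?_, ?_⟩⟩
    · refine (isColimitOfPreserves (HomologicalComplex.eval (ModSite.Mod O) (ComplexShape.up ℤ) m)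
        (colimit.isColimit (Discrete.functor S))).hom_ext ?_
      rintro ⟨q⟩
      change (Sigma.ι S q).f m ≫ f.f m ≫ g = (Sigma.ι S q).f m ≫ 𝟙 _
      rw [← Category.assoc, ← HomologicalComplex.comp_f, Sigma.ι_desc, Category.comp_id]
      by_cases hq : m = q
      · subst hq
        simp [d, g]
      · exact (HomologicalComplex.isZero_single_obj_X _ _ _ _ hq).eq_of_src _ _
    · change _ ≫ f.f m = _
      rw [Category.assoc, ← HomologicalComplex.comp_f, Sigma.ι_desc]
      simp [d]
  haveI := HomologicalComplex.Hom.isIso_of_components f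
  exact of_iso (asIso f) (of_isColimit (Discrete.functor S) (colimit.isColimit _)
    fun j => single _ (h j.as) j.as)

/-- a cone on a zero differential flat complex preserves K-flatness -/
theorem mappingCone_of_zeroDiff {P N : CochainComplex (ModSite.Mod O) ℤ} (φ : P ⟶ N)
    (hd : ∀ m n, P.d m n = 0) (hP : ∀ n, ModSite.IsFlat (P.X n)) (hN : ModSite.IsKFlat N) :
    ModSite.IsKFlat (mappingCone φ) :=
  (two_of_three_split (mappingCone.triangleRotateShortComplexSplitting φ)).2.1 hN
    (of_zeroDiff _ (fun m n => by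
      change (1 : ℤ).negOnePow • P.d (m + 1) (n + 1) = 0
      rw [hd, smul_zero]) (fun n => hP (n + 1)))

variable (O)

/-- the cell tower of `O_X`-modules -/
noncomputable abbrev Res : Arrow (CochainComplex (ModSite.Mod O) ℤ) ⥤ CochainComplex (ModSite.Mod O) ℤ :=
  Cell.res (cover O) (coverπ O)

instance epi_π' (A : (ModSite.Mod O)) : Epi ((coverπ O).app A) := epi_coverπ O A

variable {O}

theorem isKFlat_res (e : Arrow (CochainComplex (ModSite.Mod O) ℤ)) (h : ModSite.IsKFlat e.left) :
    ModSite.IsKFlat ((Res O).obj e) := by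
  refine Cell.res_induction (cover O) (coverπ O) e (fun N => ModSite.IsKFlat N) h
    (fun f ih => mappingCone_of_zeroDiff _ (fun _ _ => rfl) (fun n => isFlat_cover _) ih)
    (fun K c hc hK => of_isColimit K hc hK)

theorem isFlat_res (e : Arrow (CochainComplex (ModSite.Mod O) ℤ)) (h : ∀ n, ModSite.IsFlat (e.left.X n))
    (n : ℤ) : ModSite.IsFlat (((Res O).obj e).X n) :=
  Cell.res_induction (cover O) (coverπ O) e (fun N => ∀ n, ModSite.IsFlat (N.X n)) h
    (fun f ih => isFlat_mappingCone _ (fun m => isFlat_cover _) ih)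
    (fun K c hc hK n => isFlat_colimitNat _
      (isColimitOfPreserves (HomologicalComplex.eval (ModSite.Mod O) (ComplexShape.up ℤ) n) hc) (fun k => hK k n)) n

/-- a contractible flat complex covering every degree -/
noncomputable def coverCx (G : CochainComplex (ModSite.Mod O) ℤ) : CochainComplex (ModSite.Mod O) ℤ where
  X p := (cover O).obj (G.X (p - 1))
  d _ _ := 0
  shape _ _ _ := rfl
  d_comp_d' _ _ _ _ _ := comp_zero

/-- the covering cochain -/
noncomputable def coverCochain (G : CochainComplex (ModSite.Mod O) ℤ) : Cochain (coverCx G) G (-1) :=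
  Cochain.mk fun p q hpq =>
    (coverπ O).app _ ≫ (G.XIsoOfEq (show p - 1 = q by omega)).hom

/-- its coboundary -/
noncomputable def coverHom (G : CochainComplex (ModSite.Mod O) ℤ) : coverCx G ⟶ G :=
  Cocycle.homOf (Cocycle.mk (δ (-1) 0 (coverCochain G)) 1 (by omega) (δ_δ _ _ _ _))

/-- the contractible start -/
noncomputable def start (G : CochainComplex (ModSite.Mod O) ℤ) : CochainComplex (ModSite.Mod O) ℤ :=
  mappingCone (𝟙 (coverCx G))

/-- its map to `G` -/
noncomputable def startHom (G : CochainComplex (ModSite.Mod O) ℤ) : start G ⟶ G :=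
  mappingCone.desc (𝟙 (coverCx G)) (coverCochain G) (coverHom G) (by
    ext p
    simp [coverHom, Cocycle.homOf])

theorem epi_startHom_f (G : CochainComplex (ModSite.Mod O) ℤ) (n : ℤ) : Epi ((startHom G).f n) := by
  haveI : Epi ((mappingCone.inl (𝟙 (coverCx G))).v (n + 1) n (by omega) ≫ (startHom G).f n) := by
    rw [startHom, mappingCone.inl_v_desc_f]
    simp only [coverCochain, Cochain.mk_v]
    exact epi_comp _ _
  exact epi_of_epi ((mappingCone.inl (𝟙 (coverCx G))).v (n + 1) n _) _

theorem isFlat_start (G : CochainComplex (ModSite.Mod O) ℤ) (n : ℤ) : ModSite.IsFlat ((start G).X n) :=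
  isFlat_mappingCone _ (fun _ => isFlat_cover _) (fun _ => isFlat_cover _) n

theorem isKFlat_start (G : CochainComplex (ModSite.Mod O) ℤ) : ModSite.IsKFlat (start G) :=
  mappingCone_of_zeroDiff _ (fun _ _ => rfl) (fun _ => isFlat_cover _)
    (of_zeroDiff _ (fun _ _ => rfl) (fun _ => isFlat_cover _))

/-- factorisation through a K-flat complex, degreewise epimorphic -/
theorem exists_factor {K L : CochainComplex (ModSite.Mod O) ℤ} (a : K ⟶ L) (hK : ModSite.IsKFlat K) :
    ∃ (N : CochainComplex (ModSite.Mod O) ℤ) (b : K ⟶ N) (c : N ⟶ L), ModSite.IsKFlat N ∧ QuasiIso c ∧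
      b ≫ c = a ∧ (∀ n, Epi (c.f n)) ∧
      ((∀ n : ℤ, ModSite.IsFlat (K.X n)) → ∀ n : ℤ, ModSite.IsFlat (N.X n)) := by
  let e : Arrow (CochainComplex (ModSite.Mod O) ℤ) := Arrow.mk (biprod.desc a (startHom L))
  have hio : (Cell.resIn _ _).app e ≫ (Cell.resOut _ _).app e = e.hom :=
    NatTrans.congr_app (Cell.resIn_resOut (cover O) (coverπ O)) e
  refine ⟨(Res O).obj e, biprod.inl ≫ (Cell.resIn _ _).app e, (Cell.resOut _ _).app e,
    isKFlat_res e ?_, Cell.quasiIso_resOut _ _ e, ?_, fun n => ?_, fun hfl => isFlat_res e fun n => ?_⟩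
  · let S : ShortComplex (CochainComplex (ModSite.Mod O) ℤ) :=
      ShortComplex.mk (biprod.inl : K ⟶ K ⊞ start L) biprod.snd (by simp)
    have σ : S.Splitting := { r := biprod.fst, s := biprod.inr }
    exact (two_of_three_split (S := S)
      fun q => σ.map (HomologicalComplex.eval (ModSite.Mod O) (ComplexShape.up ℤ) q)).2.1 hK (isKFlat_start L)
  · rw [Category.assoc, hio]
    exact biprod.inl_desc _ _
  · haveI : Epi ((startHom L).f n) := epi_startHom_f L n
    let π := coverπ O
    have : ((biprod.inr : start L ⟶ K ⊞ start L) ≫ (Cell.resIn _ π).app e).f n ≫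
        ((Cell.resOut _ π).app e).f n = (startHom L).f n := by
      rw [← HomologicalComplex.comp_f, Category.assoc, hio]
      exact congrArg (fun t => HomologicalComplex.Hom.f t n) (biprod.inr_desc _ _)
    exact epi_of_epi_fac this
  · exact isFlat_congr
      ((HomologicalComplex.eval (ModSite.Mod O) (ComplexShape.up ℤ) n).mapBiprod K (start L)).symm
      (isFlat_biprod (hfl n) (isFlat_start L n))

/-- K-flat resolutions -/
theorem exists_resolution (G : CochainComplex (ModSite.Mod O) ℤ) :
    ∃ (K : CochainComplex (ModSite.Mod O) ℤ) (q : K ⟶ G), ModSite.IsKFlat K ∧ (∀ n : ℤ, ModSite.IsFlat (K.X n)) ∧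
      QuasiIso q ∧ ∀ n : ℤ, Epi (q.f n) := by
  have hz : IsZero (HomologicalComplex.zero : CochainComplex (ModSite.Mod O) ℤ) := HomologicalComplex.isZero_zero
  obtain ⟨N, b, c, hN, hc, -, he, hf⟩ :=
    exists_factor (0 : (HomologicalComplex.zero : CochainComplex (ModSite.Mod O) ℤ) ⟶ G) (zero _ hz)
  exact ⟨N, c, hN, hf (fun n => isFlat_zero ((HomologicalComplex.eval (ModSite.Mod O) (ComplexShape.up ℤ) n).map_isZero hz)),
    hc, he⟩

/-- `M ⊗ N ≅ N ⊗ M` as values of the bifunctor. -/
def commβ (M N : ModSite.Mod O) :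
    ((ModSite.tensorBi O).obj ((𝟭 _).obj M)).obj ((𝟭 _).obj N) ≅
      (𝟭 _).obj (((ModSite.tensorBi O).flip.obj M).obj N) :=
  (braidIso M).app N

theorem commβ_natural₁ {M M' : ModSite.Mod O} (f : M ⟶ M') (N : ModSite.Mod O) :
    ((ModSite.tensorBi O).map ((𝟭 _).map f)).app ((𝟭 _).obj N) ≫ (commβ M' N).hom =
      (commβ M N).hom ≫ (𝟭 _).map (((ModSite.tensorBi O).flip.map f).app N) := by
  refine ((shf O).map_comp _ _).symm.trans ((congrArg (shf O).map ?_).trans ((shf O).map_comp _ _))
  exact BraidedCategory.braiding_naturality_left _ _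

theorem commβ_natural₂ (M : ModSite.Mod O) {N N' : ModSite.Mod O} (g : N ⟶ N') :
    ((ModSite.tensorBi O).obj ((𝟭 _).obj M)).map ((𝟭 _).map g) ≫ (commβ M N').hom =
      (commβ M N).hom ≫ (𝟭 _).map (((ModSite.tensorBi O).flip.obj M).map g) :=
  (braidIso M).hom.naturality g

/-- `E ⊗ L ≅ L ⊗ E` -/
noncomputable def commIso (L E : CochainComplex (ModSite.Mod O) ℤ) : (T E).obj L ≅ (T L).obj E :=
  FunctorTotal.totalIso (ModSite.tensorBi O).flip (ModSite.tensorBi O) (𝟭 _) (𝟭 _) (𝟭 _)
      commβ commβ_natural₁ commβ_natural₂ (c := ComplexShape.up ℤ) E L ≪≫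
    ((𝟭 (ModSite.Mod O)).mapHomologicalComplex (ComplexShape.up ℤ)).mapIso
      (HomologicalComplex.mapBifunctorFlipIso L E (ModSite.tensorBi O) (ComplexShape.up ℤ))

theorem commIso_ι (L E : CochainComplex (ModSite.Mod O) ℤ) (p q n : ℤ) (h : q + p = n) :
    HomologicalComplex.ιMapBifunctor E L (ModSite.tensorBi O) (ComplexShape.up ℤ) q p n h ≫
        (commIso L E).hom.f n =
      (commβ (E.X q) (L.X p)).hom ≫
        (ComplexShape.σ (ComplexShape.up ℤ) (ComplexShape.up ℤ) (ComplexShape.up ℤ) p q •
          HomologicalComplex.ιMapBifunctor L E (ModSite.tensorBi O) (ComplexShape.up ℤ) p q n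
            (show p + q = n by omega)) := by
  simp only [commIso, Iso.trans_hom, HomologicalComplex.comp_f, FunctorTotal.totalIso,
    HomologicalComplex.Hom.isoOfComponents_hom_f, asIso_hom]
  rw [← Category.assoc]
  refine (congrArg (fun k => k ≫ _) (FunctorTotal.ι_compX (ModSite.tensorBi O).flip (ModSite.tensorBi O)
    (𝟭 _) (𝟭 _) (𝟭 _) commβ (c := ComplexShape.up ℤ) E L q p n h)).trans ?_
  rw [Category.assoc]
  refine congrArg (fun k => (commβ (E.X q) (L.X p)).hom ≫ k) ?_
  exact HomologicalComplex.ι_mapBifunctorFlipIso_hom _ _ _ _ _ _ _ _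

/-- naturality in the first variable -/
theorem commIso_natural {L L' : CochainComplex (ModSite.Mod O) ℤ} (a : L ⟶ L') (E : CochainComplex (ModSite.Mod O) ℤ) :
    (T E).map a ≫ (commIso L' E).hom =
      (commIso L E).hom ≫ ((ModSite.tensorCx O).map a).app E := by
  ext n : 1
  refine HomologicalComplex.mapBifunctor.hom_ext fun q p h => ?_
  have h' : p + q = n := by dsimp at h; omega
  rw [HomologicalComplex.comp_f, HomologicalComplex.comp_f, BifExact.ι_T_map_assoc, commIso_ι,
    ← Category.assoc (f := HomologicalComplex.ιMapBifunctor E L _ _ q p n h), commIso_ι, Category.assoc,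
    Linear.units_smul_comp]
  rw [show HomologicalComplex.ιMapBifunctor L E (ModSite.tensorBi O) (ComplexShape.up ℤ) p q n h' ≫
      (((ModSite.tensorCx O).map a).app E).f n =
      ((ModSite.tensorBi O).map (a.f p)).app (E.X q) ≫
        HomologicalComplex.ιMapBifunctor L' E (ModSite.tensorBi O) (ComplexShape.up ℤ) p q n h' from ?_]
  · rw [Linear.comp_units_smul, Linear.comp_units_smul, Linear.comp_units_smul]
    refine congrArg (fun k => ComplexShape.σ (ComplexShape.up ℤ) (ComplexShape.up ℤ) (ComplexShape.up ℤ) p q • k) ?_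
    rw [← Category.assoc, ← Category.assoc]
    refine congrArg (fun k => k ≫ HomologicalComplex.ιMapBifunctor L' E (ModSite.tensorBi O) (ComplexShape.up ℤ) p q n h') ?_
    exact commβ_natural₂ (E.X q) (a.f p)
  · refine (HomologicalComplex.ι_mapBifunctorMap a (𝟙 E) (ModSite.tensorBi O) (ComplexShape.up ℤ) p q n h').trans ?_
    rw [HomologicalComplex.id_f, CategoryTheory.Functor.map_id, Category.id_comp]

/-- an acyclic K-flat complex stays acyclic after tensoring with anything -/
theorem acyclic_tensor (K : CochainComplex (ModSite.Mod O) ℤ) (hK : ModSite.IsKFlat K)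
    (hacyc : ∀ i, IsZero (K.homology i)) (L : CochainComplex (ModSite.Mod O) ℤ) (i : ℤ) :
    IsZero (((T L).obj K).homology i) := by
  have key : ∀ R : CochainComplex (ModSite.Mod O) ℤ, ModSite.IsKFlat R → ∀ i, IsZero (((T K).obj R).homology i) :=
    fun R hR => hR K hacyc
  obtain ⟨R, r, hR, -, hr, -⟩ := exists_resolution L
  haveI := hr
  have hC : ∀ i, IsZero (((T K).obj (mappingCone r)).homology i) := fun i =>
    (hK (mappingCone r) (ConeTransfer.acyclic_cone r) i).of_iso
      ((HomologicalComplex.homologyFunctor _ _ i).mapIso (commIso (mappingCone r) K))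
  have hS := BifExact.shortExact_T_of_splitting (ModSite.tensorBi O) K
    (mappingCone.triangleRotateShortComplex r) (mappingCone.triangleRotateShortComplexSplitting r)
  refine IsZero.of_iso ?_ ((HomologicalComplex.homologyFunctor _ _ i).mapIso (commIso L K)).symm
  exact (hS.homology_exact₁ (i - 1) i (by simp)).isZero_X₂
    ((key _ (shift R 1 hR) (i - 1)).eq_of_src _ _) ((hC i).eq_of_tgt _ _)

/-- tensoring keeps quasi-isomorphisms between K-flat complexes -/
theorem quasiIso_tensor {P Q : CochainComplex (ModSite.Mod O) ℤ} (α : P ⟶ Q) [QuasiIso α]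
    (hP : ModSite.IsKFlat P) (hQ : ModSite.IsKFlat Q) (L : CochainComplex (ModSite.Mod O) ℤ) :
    QuasiIso ((T L).map α) :=
  ConeTransfer.quasiIso_map (T L) (fun S σ => BifExact.shortExact_T_of_splitting _ L S σ) α
    (fun i => (((HomologicalComplex.homologyFunctor _ _ i).map_isZero
      (HomologicalComplex.isZero_zero)).of_iso
      ((tensorHomotopyEquiv L
        { hom := 0
          inv := 0
          homotopyHomInvId := (Homotopy.ofEq (by simp)).trans (mappingCone.homotopyToZeroOfId P).symm
          homotopyInvHomId := Homotopy.ofEq (HomologicalComplex.isZero_zero.eq_of_src _ _) :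
          HomotopyEquiv (mappingCone (𝟙 P)) (HomologicalComplex.zero : CochainComplex (ModSite.Mod O) ℤ) }).toHomologyIso i ≪≫
        (HomologicalComplex.homologyFunctor _ _ i).mapIso ((T L).map_isZero HomologicalComplex.isZero_zero).isoZero ≪≫
        (HomologicalComplex.homologyFunctor _ _ i).mapIso HomologicalComplex.isZero_zero.isoZero.symm)))
    (fun i => acyclic_tensor _ (isKFlat_cone α hP hQ) (ConeTransfer.acyclic_cone α) L i)

/-- the same, in the first variable -/
theorem quasiIso_tensor_left {P Q : CochainComplex (ModSite.Mod O) ℤ} (α : P ⟶ Q) [QuasiIso α]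
    (hP : ModSite.IsKFlat P) (hQ : ModSite.IsKFlat Q) (E : CochainComplex (ModSite.Mod O) ℤ) :
    QuasiIso (((ModSite.tensorCx O).map α).app E) := by
  haveI := quasiIso_tensor α hP hQ E
  have h : QuasiIso ((commIso P E).hom ≫ ((ModSite.tensorCx O).map α).app E) := by
    rw [← commIso_natural]; infer_instance
  exact quasiIso_of_comp_left (commIso P E).hom _

end Groth.L15.KFlatSite
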