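import Groth.Agent.L15.KFlatSite.Assoc
import Groth.Agent.L15.ModTensor.RestrDerived

/-! Restriction to a slice preserves K-flatness. -/

set_option autoImplicit false
set_option backward.isDefEq.respectTransparency false
set_option backward.isDefEq.respectTransparency.types false

universe u

open CategoryTheory CategoryTheory.Limits MonoidalCategory

noncomputable section

namespace Groth.L15.KFlatSite

open Groth.L15.ModTensor Groth.L00 Groth.L00.ModSiteTensor

variable {C : Type u} [SmallCategory C] {J : GrothendieckTopology C} (O : Sheaf J CommRingCat.{u}) (U : C)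

/-- `(P, N) ↦ P ⊗ N|_U`. -/
abbrev resBi : ModSite.Mod (O.over U) ⥤ ModSite.Mod O ⥤ ModSite.Mod (O.over U) :=
  ModSite.tensorBi (O.over U) ⋙ (Functor.whiskeringLeft _ _ _).obj (ModSite.restr O U)

instance additive_resBi : (resBi O U).Additive where
  map_add {P Q f g} := NatTrans.ext (funext fun N =>
    congrArg (fun k => NatTrans.app k ((ModSite.restr O U).obj N)) ((ModSite.tensorBi (O.over U)).map_add))

instance additive_resBi_obj (P : ModSite.Mod (O.over U)) : ((resBi O U).obj P).Additive :=
  inferInstanceAs (ModSite.restr O U ⋙ (ModSite.tensorBi (O.over U)).obj P).Additive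

instance hasMapBifunctor_resBi (K : CochainComplex (ModSite.Mod (O.over U)) ℤ)
    (L : CochainComplex (ModSite.Mod O) ℤ) :
    HomologicalComplex.HasMapBifunctor K L (resBi O U) (ComplexShape.up ℤ) := fun _ => inferInstance

/-- The projection formula in both variables. -/
def projβ (P : ModSite.Mod (O.over U)) (N : ModSite.Mod O) :
    ((ModSite.tensorBi O).obj ((ModSite.extZero O U).obj P)).obj ((𝟭 _).obj N) ≅
      (ModSite.extZero O U).obj (((resBi O U).obj P).obj N) :=
  ((extShfIso O U).app ((preF (O.over U)).obj P ⊗ (resP O U).obj ((preF O).obj N)) ≪≫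
    (shf O).mapIso (asIso (projHom O U ((preF (O.over U)).obj P) ((preF O).obj N))) ≪≫
    whiskerRightIso ((jPF O U).obj ((preF (O.over U)).obj P)) ((preF O).obj N) ≪≫
    (tR N).mapIso ((extZeroIso O U).app P)).symm

theorem projβ_inv (P : ModSite.Mod (O.over U)) (N : ModSite.Mod O) :
    (projβ O U P N).inv = (extShfIso O U).hom.app ((preF (O.over U)).obj P ⊗ (resP O U).obj ((preF O).obj N)) ≫
      (shf O).map (projHom O U ((preF (O.over U)).obj P) ((preF O).obj N)) ≫
      (shf O).map (Groth.L00.ModSiteTensor.unit ((jPF O U).obj ((preF (O.over U)).obj P)) ▷ (preF O).obj N) ≫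
      (tR N).map ((extZeroIso O U).hom.app P) := rfl

theorem projβ_natural₁ {P P' : ModSite.Mod (O.over U)} (f : P ⟶ P') (N : ModSite.Mod O) :
    (ModSite.extZero O U).map (((resBi O U).map f).app N) ≫ (projβ O U P' N).inv =
      (projβ O U P N).inv ≫ (tR N).map ((ModSite.extZero O U).map f) := by
  rw [projβ_inv, projβ_inv]
  have hA : (ModSite.extZero O U).map ((shf (O.over U)).map
        ((preF (O.over U)).map f ▷ (resP O U).obj ((preF O).obj N))) ≫
      (extShfIso O U).hom.app _ = (extShfIso O U).hom.app _ ≫
        (shf O).map ((jPF O U).map ((preF (O.over U)).map f ▷ (resP O U).obj ((preF O).obj N))) :=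
    (extShfIso O U).hom.naturality ((preF (O.over U)).map f ▷ (resP O U).obj ((preF O).obj N))
  refine (reassoc_of% hA) _ |>.trans ?_
  rw [← Functor.map_comp_assoc, projHom_natural_left, Functor.map_comp_assoc]
  simp only [Category.assoc]
  refine congrArg (fun t => (extShfIso O U).hom.app _ ≫ (shf O).map _ ≫ t) ?_
  have hB : (shf O).map ((jPF O U).map ((preF (O.over U)).map f) ▷ (preF O).obj N) ≫
      (shf O).map (Groth.L00.ModSiteTensor.unit ((jPF O U).obj ((preF (O.over U)).obj P')) ▷ (preF O).obj N) =
      (shf O).map (Groth.L00.ModSiteTensor.unit ((jPF O U).obj ((preF (O.over U)).obj P)) ▷ (preF O).obj N) ≫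
        (tR N).map ((shf O).map ((jPF O U).map ((preF (O.over U)).map f))) := by
    refine ((shf O).map_comp _ _).symm.trans ((congrArg (shf O).map ?_).trans ((shf O).map_comp _ _))
    exact (MonoidalCategory.comp_whiskerRight _ _ _).symm.trans
      ((congrArg (fun t => t ▷ (preF O).obj N) (unit_natural ((jPF O U).map ((preF (O.over U)).map f)))).trans
        (MonoidalCategory.comp_whiskerRight _ _ _))
  rw [reassoc_of% hB, ← Functor.map_comp, ← Functor.map_comp]
  exact congrArg (fun t => (shf O).map _ ≫ (tR N).map t) ((extZeroIso O U).hom.naturality f)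

theorem projβ_natural₂ (P : ModSite.Mod (O.over U)) {N N' : ModSite.Mod O} (g : N ⟶ N') :
    (ModSite.extZero O U).map (((resBi O U).obj P).map g) ≫ (projβ O U P N').inv =
      (projβ O U P N).inv ≫ ((ModSite.tensorBi O).obj ((ModSite.extZero O U).obj P)).map g := by
  rw [projβ_inv, projβ_inv]
  have hA : (ModSite.extZero O U).map ((shf (O.over U)).map
        ((preF (O.over U)).obj P ◁ (resP O U).map ((preF O).map g))) ≫
      (extShfIso O U).hom.app _ = (extShfIso O U).hom.app _ ≫
        (shf O).map ((jPF O U).map ((preF (O.over U)).obj P ◁ (resP O U).map ((preF O).map g))) :=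
    (extShfIso O U).hom.naturality ((preF (O.over U)).obj P ◁ (resP O U).map ((preF O).map g))
  refine (reassoc_of% hA) _ |>.trans ?_
  rw [← Functor.map_comp_assoc, projHom_natural_right, Functor.map_comp_assoc]
  simp only [Category.assoc]
  refine congrArg (fun t => (extShfIso O U).hom.app _ ≫ (shf O).map _ ≫ t) ?_
  have hB : (shf O).map ((jPF O U).obj ((preF (O.over U)).obj P) ◁ (preF O).map g) ≫
      (shf O).map (Groth.L00.ModSiteTensor.unit ((jPF O U).obj ((preF (O.over U)).obj P)) ▷ (preF O).obj N') =
      (shf O).map (Groth.L00.ModSiteTensor.unit ((jPF O U).obj ((preF (O.over U)).obj P)) ▷ (preF O).obj N) ≫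
        (tL ((shf O).obj ((jPF O U).obj ((preF (O.over U)).obj P)))).map g := by
    refine ((shf O).map_comp _ _).symm.trans ((congrArg (shf O).map ?_).trans ((shf O).map_comp _ _))
    exact MonoidalCategory.whisker_exchange _ _
  rw [reassoc_of% hB]
  exact congrArg (fun t => (shf O).map _ ≫ t)
    (((ModSite.tensorBi O).map ((extZeroIso O U).hom.app P)).naturality g)

theorem projβ_hβ₁ {P P' : ModSite.Mod (O.over U)} (f : P ⟶ P') (N : ModSite.Mod O) :
    ((ModSite.tensorBi O).map ((ModSite.extZero O U).map f)).app ((𝟭 _).obj N) ≫ (projβ O U P' N).hom =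
      (projβ O U P N).hom ≫ (ModSite.extZero O U).map (((resBi O U).map f).app N) :=
  (Iso.eq_comp_inv _).1 (by
    rw [Category.assoc, projβ_natural₁, ← Category.assoc, Iso.hom_inv_id, Category.id_comp]
    rfl)

theorem projβ_hβ₂ (P : ModSite.Mod (O.over U)) {N N' : ModSite.Mod O} (g : N ⟶ N') :
    ((ModSite.tensorBi O).obj ((ModSite.extZero O U).obj P)).map ((𝟭 _).map g) ≫ (projβ O U P N').hom =
      (projβ O U P N).hom ≫ (ModSite.extZero O U).map (((resBi O U).obj P).map g) :=
  (Iso.eq_comp_inv _).1 (by
    rw [Category.assoc, projβ_natural₂, ← Category.assoc, Iso.hom_inv_id, Category.id_comp]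
    rfl)

theorem isKFlat_restr (K : CochainComplex (ModSite.Mod O) ℤ) (hK : ModSite.IsKFlat K) :
    ModSite.IsKFlat (((ModSite.restr O U).mapHomologicalComplex (ComplexShape.up ℤ)).obj K) := fun L hL i => by
  haveI : PreservesColimitsOfSize.{0, 0} (ModSite.extZero O U) :=
    haveI := (ModSite.extZeroAdj O U).leftAdjoint_preservesColimits
    preservesColimitsOfSize_shrink.{0, u, 0, u} _
  let ext := (ModSite.extZero O U).mapHomologicalComplex (ComplexShape.up ℤ)
  let Z := HomologicalComplex.mapBifunctor L K (resBi O U) (ComplexShape.up ℤ)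
  let a := FunctorTotal.totalIso (resBi O U) (ModSite.tensorBi (O.over U)) (𝟭 _) (ModSite.restr O U) (𝟭 _)
    (fun P N => Iso.refl _) (fun _ _ => (Category.comp_id _).trans (Category.id_comp _).symm)
    (fun _ _ _ _ => (Category.comp_id _).trans (Category.id_comp _).symm) (c := ComplexShape.up ℤ) L K
  let b := FunctorTotal.totalIso (resBi O U) (ModSite.tensorBi O) (ModSite.extZero O U) (𝟭 _)
    (ModSite.extZero O U) (projβ O U) (fun f N => projβ_hβ₁ O U f N) (fun P _ _ g => projβ_hβ₂ O U P g)
    (c := ComplexShape.up ℤ) L K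
  have hext : ∀ (E : CochainComplex (ModSite.Mod (O.over U)) ℤ),
      (ext.obj E).homology i ≅ (ModSite.extZero O U).obj (E.homology i) := fun E =>
    (E.sc i).mapHomologyIso (ModSite.extZero O U)
  have hjL : ∀ j, IsZero ((ext.obj L).homology j) := fun j =>
    ((ModSite.extZero O U).map_isZero (hL j)).of_iso ((L.sc j).mapHomologyIso (ModSite.extZero O U))
  have h1 : IsZero ((ModSite.extZero O U).obj (Z.homology i)) :=
    (hK (ext.obj L) hjL i).of_iso ((hext Z).symm ≪≫ (HomologicalComplex.homologyFunctor _ _ i).mapIso b.symm)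
  have h2 : IsZero (Z.homology i) := by
    rw [IsZero.iff_id_eq_zero]
    apply (ModSite.extZero O U).map_injective
    exact h1.eq_of_src _ _
  exact h2.of_iso ((HomologicalComplex.homologyFunctor _ _ i).mapIso a)

end Groth.L15.KFlatSite
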