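import Groth.Agent.L15.KFlatSite.Res
import Mathlib.Algebra.Homology.BifunctorAssociator

/-! Associativity of the tensor product of complexes of modules on a site; statements on K-flat complexes. -/

set_option autoImplicit false
set_option backward.isDefEq.respectTransparency false
set_option backward.isDefEq.respectTransparency.types false

universe u

open CategoryTheory CategoryTheory.Limits MonoidalCategory CochainComplex

noncomputable section

namespace Groth.L15.KFlatSite

open Groth.L15.ModTensor Groth.L00 Groth.L00.ModSiteTensor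

variable {C : Type u} [SmallCategory C] {J : GrothendieckTopology C} {O : Sheaf J CommRingCat.{u}}

/-- The tensor product of maps. -/
abbrev tensorMap {A A' B B' : ModSite.Mod O} (f : A ⟶ A') (g : B ⟶ B') :
    ((ModSite.tensorBi O).obj A).obj B ⟶ ((ModSite.tensorBi O).obj A').obj B' :=
  (shf O).map ((preF O).map f ⊗ₘ (preF O).map g)

/-- Associativity on objects. -/
def assocApp (A B D : ModSite.Mod O) :
    ((ModSite.tensorBi O).obj (((ModSite.tensorBi O).obj A).obj B)).obj D ≅
      ((ModSite.tensorBi O).obj A).obj (((ModSite.tensorBi O).obj B).obj D) :=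
  (whiskerRightIso ((preF O).obj A ⊗ (preF O).obj B) ((preF O).obj D)).symm ≪≫
    (shf O).mapIso (α_ _ _ _) ≪≫ whiskerLeftIso ((preF O).obj A) ((preF O).obj B ⊗ (preF O).obj D)

theorem unit_natural {P Q : PMo O} (f : P ⟶ Q) :
    f ≫ Groth.L00.ModSiteTensor.unit Q = Groth.L00.ModSiteTensor.unit P ≫ (preF O).map ((shf O).map f) :=
  (PresheafOfModules.sheafificationAdjunction (𝟙 (ModSite.ringSh O).obj)).unit.naturality f

theorem assoc_natural {A A' B B' D D' : ModSite.Mod O} (f : A ⟶ A') (g : B ⟶ B') (h : D ⟶ D') :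
    tensorMap (tensorMap f g) h ≫ (assocApp A' B' D').hom =
      (assocApp A B D).hom ≫ tensorMap f (tensorMap g h) := by
  have h1 : (whiskerRightIso ((preF O).obj A ⊗ (preF O).obj B) ((preF O).obj D)).hom ≫
      tensorMap (tensorMap f g) h = (shf O).map (((preF O).map f ⊗ₘ (preF O).map g) ⊗ₘ (preF O).map h) ≫
        (whiskerRightIso ((preF O).obj A' ⊗ (preF O).obj B') ((preF O).obj D')).hom := by
    refine ((shf O).map_comp _ _).symm.trans ((congrArg (shf O).map ?_).trans ((shf O).map_comp _ _))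
    rw [← MonoidalCategory.tensorHom_id, ← MonoidalCategory.tensorHom_id,
      MonoidalCategory.tensorHom_comp_tensorHom, MonoidalCategory.tensorHom_comp_tensorHom, Category.id_comp]
    exact congrArg₂ (fun a b => MonoidalCategory.tensorHom a b) (unit_natural _).symm (Category.comp_id _).symm
  have h2 : (whiskerLeftIso ((preF O).obj A) ((preF O).obj B ⊗ (preF O).obj D)).hom ≫
      tensorMap f (tensorMap g h) = (shf O).map ((preF O).map f ⊗ₘ ((preF O).map g ⊗ₘ (preF O).map h)) ≫
        (whiskerLeftIso ((preF O).obj A') ((preF O).obj B' ⊗ (preF O).obj D')).hom := by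
    refine ((shf O).map_comp _ _).symm.trans ((congrArg (shf O).map ?_).trans ((shf O).map_comp _ _))
    rw [← MonoidalCategory.id_tensorHom, ← MonoidalCategory.id_tensorHom,
      MonoidalCategory.tensorHom_comp_tensorHom, MonoidalCategory.tensorHom_comp_tensorHom, Category.id_comp]
    exact congrArg₂ (fun a b => MonoidalCategory.tensorHom a b) (Category.comp_id _).symm (unit_natural _).symm
  rw [← cancel_epi (whiskerRightIso ((preF O).obj A ⊗ (preF O).obj B) ((preF O).obj D)).hom]
  simp only [assocApp, Iso.trans_hom, Iso.symm_hom, Category.assoc, Functor.mapIso_hom]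
  rw [reassoc_of% h1, Iso.hom_inv_id_assoc, Iso.hom_inv_id_assoc, h2, ← Functor.map_comp_assoc,
    ← Functor.map_comp_assoc]
  exact congrArg (fun t => (shf O).map t ≫ _) (MonoidalCategory.associator_naturality _ _ _)

theorem map_app_eq {A A' : ModSite.Mod O} (φ : A ⟶ A') (B : ModSite.Mod O) :
    ((ModSite.tensorBi O).map φ).app B = tensorMap φ (𝟙 B) := by
  refine congrArg (shf O).map ?_
  rw [CategoryTheory.Functor.map_id]
  exact (MonoidalCategory.tensorHom_id _ _).symm

theorem obj_map_eq (A : ModSite.Mod O) {B B' : ModSite.Mod O} (φ : B ⟶ B') :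
    ((ModSite.tensorBi O).obj A).map φ = tensorMap (𝟙 A) φ := by
  refine congrArg (shf O).map ?_
  rw [CategoryTheory.Functor.map_id]
  exact (MonoidalCategory.id_tensorHom _ _).symm

theorem tensorMap_id (A B : ModSite.Mod O) : tensorMap (𝟙 A) (𝟙 B) = 𝟙 _ :=
  (map_app_eq (𝟙 A) B).symm.trans (by rw [CategoryTheory.Functor.map_id, NatTrans.id_app])

/-- Associativity as trifunctors. -/
def assocNat (O : Sheaf J CommRingCat.{u}) :
    bifunctorComp₁₂ (ModSite.tensorBi O) (ModSite.tensorBi O) ≅
      bifunctorComp₂₃ (ModSite.tensorBi O) (ModSite.tensorBi O) :=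
  NatIso.ofComponents (fun A => NatIso.ofComponents (fun B => NatIso.ofComponents (fun D => assocApp A B D)
      (fun {D D'} h => by
        change ((ModSite.tensorBi O).obj (((ModSite.tensorBi O).obj A).obj B)).map h ≫ _ =
          _ ≫ ((ModSite.tensorBi O).obj A).map (((ModSite.tensorBi O).obj B).map h)
        rw [obj_map_eq, obj_map_eq, obj_map_eq, ← assoc_natural (𝟙 A) (𝟙 B) h]
        simp only [tensorMap_id]))
    (fun {B B'} g => by
      refine NatTrans.ext (funext fun D => ?_)
      change ((ModSite.tensorBi O).map (((ModSite.tensorBi O).obj A).map g)).app D ≫ _ =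
        _ ≫ ((ModSite.tensorBi O).obj A).map (((ModSite.tensorBi O).map g).app D)
      rw [map_app_eq, map_app_eq, obj_map_eq, obj_map_eq]
      exact assoc_natural (𝟙 A) g (𝟙 D)))
    (fun {A A'} f => by
      refine NatTrans.ext (funext fun B => NatTrans.ext (funext fun D => ?_))
      change ((ModSite.tensorBi O).map (((ModSite.tensorBi O).map f).app B)).app D ≫ _ =
        _ ≫ ((ModSite.tensorBi O).map f).app (((ModSite.tensorBi O).obj B).obj D)
      rw [map_app_eq, map_app_eq, map_app_eq]
      refine (assoc_natural f (𝟙 B) (𝟙 D)).trans ?_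
      simp only [tensorMap_id]
      rfl)

instance preservesColimits₀_flip (N : ModSite.Mod O) :
    PreservesColimitsOfSize.{0, 0} ((ModSite.tensorBi O).flip.obj N) :=
  preservesColimitsOfSize_shrink.{0, u, 0, u} (tR N)

instance hasGood₁₂ (K₁ K₂ K₃ : CochainComplex (ModSite.Mod O) ℤ) :
    HomologicalComplex.HasGoodTrifunctor₁₂Obj (ModSite.tensorBi O) (ModSite.tensorBi O) K₁ K₂ K₃
      (ComplexShape.up ℤ) (ComplexShape.up ℤ) :=
  fun _ _ => inferInstance

instance hasGood₂₃ (K₁ K₂ K₃ : CochainComplex (ModSite.Mod O) ℤ) :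
    HomologicalComplex.HasGoodTrifunctor₂₃Obj (ModSite.tensorBi O) (ModSite.tensorBi O) K₁ K₂ K₃
      (ComplexShape.up ℤ) (ComplexShape.up ℤ) (ComplexShape.up ℤ) :=
  fun _ _ => inferInstance

/-- Associativity on complexes. -/
def assocCx (P K L : CochainComplex (ModSite.Mod O) ℤ) :
    ((ModSite.tensorCx O).obj (((ModSite.tensorCx O).obj P).obj K)).obj L ≅
      ((ModSite.tensorCx O).obj P).obj (((ModSite.tensorCx O).obj K).obj L) :=
  HomologicalComplex.mapBifunctorAssociator (assocNat O) P K L (ComplexShape.up ℤ) (ComplexShape.up ℤ)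
    (ComplexShape.up ℤ)

theorem isKFlat_tensor {P L : CochainComplex (ModSite.Mod O) ℤ} (hP : ModSite.IsKFlat P) (hL : ModSite.IsKFlat L) :
    ModSite.IsKFlat (((ModSite.tensorCx O).obj P).obj L) := fun M hM i =>
  (hL _ (fun j => hP M hM j) i).of_iso
    ((HomologicalComplex.homologyFunctor _ _ i).mapIso (assocCx M P L)).symm

theorem cone_two_of_three {K₁ K₂ : CochainComplex (ModSite.Mod O) ℤ} (φ : K₁ ⟶ K₂) :
    (ModSite.IsKFlat K₁ → ModSite.IsKFlat K₂ → ModSite.IsKFlat (mappingCone φ)) ∧
    (ModSite.IsKFlat K₁ → ModSite.IsKFlat (mappingCone φ) → ModSite.IsKFlat K₂) ∧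
    (ModSite.IsKFlat K₂ → ModSite.IsKFlat (mappingCone φ) → ModSite.IsKFlat K₁) :=
  have h := two_of_three_split (mappingCone.triangleRotateShortComplexSplitting φ)
  ⟨isKFlat_cone φ, fun h₁ hc => h.2.2 hc (shift K₁ 1 h₁), fun h₂ hc =>
    of_iso ((shiftFunctorCompIsoId (CochainComplex (ModSite.Mod O) ℤ) (1 : ℤ) (-1) (by omega)).app K₁)
      (shift _ (-1) (h.1 h₂ hc))⟩

theorem quasiIso_of_kflat {K : CochainComplex (ModSite.Mod O) ℤ} (hK : ModSite.IsKFlat K)
    {F F' : CochainComplex (ModSite.Mod O) ℤ} (φ : F ⟶ F') [QuasiIso φ] :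
    QuasiIso (((ModSite.tensorCx O).map φ).app K) := by
  have hc : ∀ (L : CochainComplex (ModSite.Mod O) ℤ), (∀ i, IsZero (L.homology i)) →
      ∀ i, IsZero (((T K).obj L).homology i) := fun L hL i =>
    (hK L hL i).of_iso ((HomologicalComplex.homologyFunctor _ _ i).mapIso (commIso L K))
  haveI : QuasiIso ((T K).map φ) :=
    ConeTransfer.quasiIso_map (T K) (fun S σ => BifExact.shortExact_T_of_splitting _ K S σ) φ
      (hc _ (ConeTransfer.acyclic_cone (𝟙 F))) (hc _ (ConeTransfer.acyclic_cone φ))
  have h : QuasiIso ((commIso F K).hom ≫ ((ModSite.tensorCx O).map φ).app K) := by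
    rw [← commIso_natural]; infer_instance
  exact quasiIso_of_comp_left (commIso F K).hom _

theorem isZero_homology_tL (K : CochainComplex (ModSite.Mod O) ℤ) (hK : ModSite.IsKFlat K)
    (hac : ∀ i, IsZero (K.homology i)) (M : ModSite.Mod O) (i : ℤ) :
    IsZero ((((tL M).mapHomologicalComplex (ComplexShape.up ℤ)).obj K).homology i) :=
  (acyclic_tensor K hK hac _ i).of_iso
    ((HomologicalComplex.homologyFunctor _ _ i).mapIso (SingleTotal.iso (ModSite.tensorBi O) M K))

theorem isFlat_cycles (K : CochainComplex (ModSite.Mod O) ℤ) (hK : ModSite.IsKFlat K)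
    (hac : ∀ i, IsZero (K.homology i)) (hfl : ∀ i, ModSite.IsFlat (K.X i)) (n : ℤ) :
    ModSite.IsFlat (K.cycles n) := by
  have key : ∀ A : ModSite.Mod O, Mono ((tL A).map (K.iCycles n)) := by
    intro A
    have hr : (ComplexShape.up ℤ).prev n = n - 1 := by simp
    let p := K.toCycles (n - 1) n
    haveI : Epi p := by
      haveI := (HomologicalComplex.exactAt_iff' K ((ComplexShape.up ℤ).prev n) n ((ComplexShape.up ℤ).next n) rfl rfl).1
        ((HomologicalComplex.exactAt_iff_isZero_homology _ _).2 (hac n))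
      refine Abelian.epi_of_cokernel_π_eq_zero _ ?_
      have hz : K.homologyπ n = 0 := (hac n).eq_of_tgt _ _
      let d := (K.homologyIsCokernel (n - 1) n hr).desc (CokernelCofork.ofπ (cokernel.π p) (cokernel.condition p))
      have hd : K.homologyπ n ≫ d = cokernel.π p :=
        (K.homologyIsCokernel (n - 1) n hr).fac _ WalkingParallelPair.one
      rw [← hd, hz, zero_comp]
    rw [Preadditive.mono_iff_cancel_zero]
    intro Z a ha
    obtain ⟨Z₁, q₁, _, b, hb⟩ := surjective_up_to_refinements_of_epi ((tL A).map p) a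
    let K' := ((tL A).mapHomologicalComplex (ComplexShape.up ℤ)).obj K
    have hb0 : b ≫ K'.d (n - 1) n = 0 := by
      change b ≫ (tL A).map (K.d (n - 1) n) = 0
      rw [← K.toCycles_i (n - 1) n, Functor.map_comp, ← Category.assoc, ← hb, Category.assoc, ha, comp_zero]
    have hex := (HomologicalComplex.exactAt_iff' K' (n - 1 - 1) (n - 1) n (by simp) (by simp)).1
      ((HomologicalComplex.exactAt_iff_isZero_homology _ _).2 (isZero_homology_tL K hK hac A (n - 1)))
    obtain ⟨Z₂, q₂, _, c, hc⟩ := hex.exact_up_to_refinements b hb0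
    have hc' : q₂ ≫ b = c ≫ (tL A).map (K.d (n - 1 - 1) (n - 1)) := hc
    rw [← cancel_epi q₁, ← cancel_epi q₂, comp_zero, comp_zero, hb, reassoc_of% hc', ← Functor.map_comp,
      K.d_toCycles, Functor.map_zero, comp_zero]
  refine (isFlat_iff _).mpr ⟨fun {A B} i _ => ?_⟩
  haveI := (isFlat_iff _).mp (hfl n)
  haveI := key A
  haveI : Mono ((tR (K.cycles n)).map i ≫ (tL B).map (K.iCycles n)) := by
    rw [← comm_sq]
    infer_instance
  exact mono_of_mono ((tR (K.cycles n)).map i) ((tL B).map (K.iCycles n))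

theorem acyclic_tR (M : ChainComplex (ModSite.Mod O) ℤ) (F : ModSite.Mod O)
    [((ModSite.tensorBi O).flip.obj F).PreservesZeroMorphisms] (hb : ∃ i₀ : ℤ, ∀ i, i < i₀ → IsZero (M.X i))
    (hM : ∀ i, ModSite.IsFlat (M.X i)) (hac : M.Acyclic) :
    ((((ModSite.tensorBi O).flip.obj F).mapHomologicalComplex (ComplexShape.down ℤ)).obj M).Acyclic := by
  let K : CochainComplex (ModSite.Mod O) ℤ :=
    { X := fun n => M.X (-n)
      d := fun i j => M.d (-i) (-j)
      shape := fun i j h => M.shape _ _ (fun h' => h (by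
        change (-j) + 1 = -i at h'
        change i + 1 = j
        omega))
      d_comp_d' := fun i j k _ _ => M.d_comp_d _ _ _ }
  obtain ⟨i₀, hi₀⟩ := hb
  have hK : ModSite.IsKFlat K :=
    of_bounded K (-i₀) ((CochainComplex.isStrictlyLE_iff _ _).2 fun n hn => hi₀ _ (by omega)) fun n => hM _
  have hKac : ∀ i, IsZero (K.homology i) := fun i => by
    rw [← HomologicalComplex.exactAt_iff_isZero_homology,
      HomologicalComplex.exactAt_iff' K (i - 1) i (i + 1) (by simp) (by simp)]
    refine ShortComplex.exact_of_iso ?_ ((HomologicalComplex.exactAt_iff' M (-(i - 1)) (-i) (-(i + 1))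
      (by simp; omega) (by simp; omega)).1 (hac (-i)))
    exact Iso.refl _
  intro j
  let G := (ModSite.tensorBi O).flip.obj F
  rw [HomologicalComplex.exactAt_iff' _ (j + 1) j (j - 1) (by simp) (by simp)]
  have h := (HomologicalComplex.exactAt_iff' (((tR F).mapHomologicalComplex (ComplexShape.up ℤ)).obj K)
    (-(j + 1)) (-j) (-(j - 1)) (by simp; omega) (by simp; omega)).1
    ((HomologicalComplex.exactAt_iff_isZero_homology _ _).2 ((isZero_homology_tL K hK hKac F (-j)).of_iso
      ((HomologicalComplex.homologyFunctor _ _ _).mapIso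
        ((NatIso.mapHomologicalComplex (braidIso F) (ComplexShape.up ℤ)).app K).symm)))
  refine ShortComplex.exact_of_iso ?_ h
  refine ShortComplex.isoMk (G.mapIso (M.XIsoOfEq (neg_neg (j + 1)))) (G.mapIso (M.XIsoOfEq (neg_neg j)))
    (G.mapIso (M.XIsoOfEq (neg_neg (j - 1)))) ?_ ?_
  · change G.map _ ≫ G.map (M.d (j + 1) j) = G.map (M.d (-(-(j + 1))) (-(-j))) ≫ G.map _
    rw [← Functor.map_comp, ← Functor.map_comp, HomologicalComplex.XIsoOfEq_hom_comp_d,
      HomologicalComplex.d_comp_XIsoOfEq_hom]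
  · change G.map _ ≫ G.map (M.d j (j - 1)) = G.map (M.d (-(-j)) (-(-(j - 1)))) ≫ G.map _
    rw [← Functor.map_comp, ← Functor.map_comp, HomologicalComplex.XIsoOfEq_hom_comp_d,
      HomologicalComplex.d_comp_XIsoOfEq_hom]

end Groth.L15.KFlatSite
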